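import Groth.Agent.Sga3B.AffHopf
import Groth.Agent.Sga3C.HopfPowMain
import Groth.Agent.Sga3A.PowConv
import Groth.Prelude.Def_Mor2
import Mathlib.AlgebraicGeometry.Morphisms.FlatRank
import Mathlib.LinearAlgebra.Dual.Lemmas
import Mathlib.RingTheory.Spectrum.Prime.FreeLocus

/-!
# A finite locally free group scheme of rank `n` over a reduced base is killed by `n`
-/

set_option autoImplicit false
universe u

open CategoryTheory MonoidalCategory CartesianMonoidalCategory MonObj GrpObj AlgebraicGeometry Limits
open TensorProduct WithConv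
open Groth.Agent.Sga3B.AffTest Groth.Agent.Sga3B.AffHopf

namespace Groth.Agent.Sga3.H794.PowReduced

/-- An element of a projective module over a reduced ring which vanishes in all the fibres is zero. -/
lemma eq_zero_of_forall_fiber {R : Type u} [CommRing R] [IsReduced R] {C : Type u} [AddCommGroup C]
    [Module R C] [Module.Projective R C] (d : C)
    (h : ∀ p : PrimeSpectrum R, (1 : p.asIdeal.ResidueField) ⊗ₜ[R] d = 0) : d = 0 := by
  rw [← Module.forall_dual_apply_eq_zero_iff R]
  intro φ
  have h1 : φ d ∈ nilradical R := by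
    rw [nilradical_eq_sInf, Ideal.mem_sInf]
    intro p hp
    have hp' : p.IsPrime := hp
    have h2 := congrArg ((TensorProduct.rid R p.ResidueField).toLinearMap ∘ₗ
      (φ.lTensor p.ResidueField)) (h ⟨p, hp'⟩)
    rw [map_zero] at h2
    have h3 : algebraMap R p.ResidueField (φ d) = 0 := by
      rw [Algebra.algebraMap_eq_smul_one]
      simpa using h2
    rwa [Ideal.algebraMap_residueField_eq_zero] at h3
  rwa [nilradical_eq_zero, Ideal.zero_eq_bot, Ideal.mem_bot] at h1

/-- Hopf algebra version -/
theorem id_pow_of_reduced (R : Type u) [CommRing R] [IsReduced R] (C : Type u) [CommRing C]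
    [HopfAlgebra R C] [Module.Finite R C] [Module.Projective R C] (n : ℕ)
    (hn : ∀ p : PrimeSpectrum R, Module.rankAtStalk C p = n) :
    (toConv (AlgHom.id R C)) ^ n = 1 := by
  have key : ∀ a : C, SGA3b.powConv R C n a = algebraMap R C (Coalgebra.counit a) := by
    intro a
    rw [← sub_eq_zero]
    apply eq_zero_of_forall_fiber (R := R)
    intro p
    apply Groth.Agent.Sga3A.PowConv.powConv_trivial_of_baseChange
    intro x
    have h1 := Groth.Agent.Sga3C.HopfPow.id_pow_finrank p.asIdeal.ResidueField
      (p.asIdeal.ResidueField ⊗[R] C)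
    have h2 : Module.finrank p.asIdeal.ResidueField (p.asIdeal.ResidueField ⊗[R] C) = n := by
      rw [← hn p]
      exact (Module.rankAtStalk_eq p).symm
    rw [h2] at h1
    show ((toConv (AlgHom.id p.asIdeal.ResidueField (p.asIdeal.ResidueField ⊗[R] C))) ^ n) x = _
    rw [h1]
    rfl
  apply WithConv.ofConv_injective
  apply AlgHom.ext
  intro a
  exact key a

/-- Equality of morphisms over `S` can be checked after base change to an open cover. -/
lemma hom_ext_of_cover {S : Scheme.{u}} {X Y : Over S} {f g : X ⟶ Y} (𝒰 : S.OpenCover)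
    (h : ∀ i : 𝒰.I₀, (Over.pullback (𝒰.f i)).map f = (Over.pullback (𝒰.f i)).map g) : f = g := by
  ext1
  apply Scheme.Cover.hom_ext (𝒰.pullback₁ X.hom)
  intro i
  have h1 := congrArg (fun k => k.left ≫ pullback.fst Y.hom (𝒰.f i)) (h i)
  have h2 : ∀ k : X ⟶ Y, ((Over.pullback (𝒰.f i)).map k).left ≫ pullback.fst Y.hom (𝒰.f i) =
      pullback.fst X.hom (𝒰.f i) ≫ k.left := fun k => by
    exact pullback.lift_fst _ _ _
  exact (h2 f).symm.trans (h1.trans (h2 g))

/-- the case of an affine base -/
theorem pow_eq_one_affine (R : Type u) [CommRing R] [IsReduced R]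
    (G : Over (Spec (CommRingCat.of R))) [GrpObj G] (n : ℕ)
    (hG : Mor2.IsFinLocFreeOfDeg n G.hom) : (𝟙 G : G ⟶ G) ^ n = 1 := by
  obtain ⟨⟨h1, h2, h3⟩, h4⟩ := hG
  have : IsAffine G.left := isAffine_of_isAffineHom G.hom
  obtain ⟨C, _, _, i, hi⟩ := exists_hopf G
  obtain ⟨il, hil, hw⟩ : ∃ il : Spec (CommRingCat.of C) ⟶ G.left, IsIso il ∧
      il ≫ G.hom = Spec.map (CommRingCat.ofHom (algebraMap R C)) :=
    ⟨i.hom.left, ((Over.forget _).mapIso i).isIso_hom, Over.w i.hom⟩
  have hfin : Module.Finite R C := by
    have h : IsFinite (Spec.map (CommRingCat.ofHom (algebraMap R C))) :=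
      hw ▸ MorphismProperty.comp_mem _ il G.hom inferInstance h1
    rw [IsFinite.SpecMap_iff] at h
    exact RingHom.finite_algebraMap.mp h
  have hflat : Module.Flat R C := by
    have h : Flat (Spec.map (CommRingCat.ofHom (algebraMap R C))) :=
      hw ▸ MorphismProperty.comp_mem _ il G.hom inferInstance h2
    rw [Flat.SpecMap_iff] at h
    exact (RingHom.flat_algebraMap_iff).mp h
  have hfp : Algebra.FinitePresentation R C := by
    have h : LocallyOfFinitePresentation (Spec.map (CommRingCat.ofHom (algebraMap R C))) :=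
      hw ▸ MorphismProperty.comp_mem _ il G.hom inferInstance h3
    rw [HasRingHomProperty.Spec_iff (P := @LocallyOfFinitePresentation)] at h
    exact RingHom.finitePresentation_algebraMap.mp h
  have hfp' : Module.FinitePresentation R C :=
    Module.FinitePresentation.of_finite_of_finitePresentation R C
  have hproj : Module.Projective R C := Module.Flat.projective_of_finitePresentation
  have hrk : ∀ p : PrimeSpectrum R, Module.rankAtStalk C p = n := by
    intro p
    rw [← Scheme.Hom.finrank_SpecMap_algebraMap]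
    have h5 : Scheme.Hom.finrank (Spec.map (CommRingCat.ofHom (algebraMap R C))) =
        Scheme.Hom.finrank G.hom := by
      refine (congrArg Scheme.Hom.finrank hw.symm).trans ?_
      exact Scheme.Hom.finrank_comp_left_of_isIso il G.hom
    rw [h5]
    exact h4 p
  have key := id_pow_of_reduced R C n hrk
  have key2 : (𝟙 (sp R C)) ^ n = 1 := by
    have h5 : Spec.mapMulEquiv (R := R) (S := C) (T := C) (toConv (AlgHom.id R C)) = 𝟙 (sp R C) :=
      spMap_id
    rw [← h5, ← map_pow, key, map_one]
  rw [← cancel_epi i.hom, MonObj.comp_pow, Category.comp_id, MonObj.comp_one]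
  calc i.hom ^ n = (𝟙 (sp R C) ≫ i.hom) ^ n := by rw [Category.id_comp]
    _ = ((𝟙 (sp R C)) ^ n) ≫ i.hom := (MonObj.pow_comp _ _ _).symm
    _ = 1 := by rw [key2, MonObj.one_comp]

lemma pow_eq_one_open (S : Scheme.{u}) [IsReduced S] (G : Over S) [GrpObj G] (n : ℕ)
    (hG : Mor2.IsFinLocFreeOfDeg n G.hom) (R : CommRingCat.{u}) (j : Spec R ⟶ S) [IsOpenImmersion j] :
    (Over.pullback j).map ((𝟙 G : G ⟶ G) ^ n) = (Over.pullback j).map 1 := by
  have hred : IsReduced (Spec R) := isReduced_of_isOpenImmersion j
  have hR : _root_.IsReduced R := (affine_isReduced_iff _).mp hred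
  obtain ⟨⟨h1, h2, h3⟩, h4⟩ := hG
  have key := pow_eq_one_affine R (Red.bc j G) n ⟨⟨by
    change IsFinite (pullback.snd G.hom j)
    infer_instance, by
    change Flat (pullback.snd G.hom j)
    infer_instance, by
    change LocallyOfFinitePresentation (pullback.snd G.hom j)
    infer_instance⟩, by
    intro y
    change (pullback.snd G.hom j).finrank y = n
    rw [Scheme.Hom.finrank_pullback_snd]
    exact h4 _⟩
  have h5 := map_pow ((Over.pullback j).homMonoidHom (X := G) (M := G)) (𝟙 G) n
  have h6 := map_one ((Over.pullback j).homMonoidHom (X := G) (M := G))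
  have h7 : (Over.pullback j).homMonoidHom (X := G) (M := G) (𝟙 G) = 𝟙 ((Over.pullback j).obj G) :=
    (Over.pullback j).map_id G
  refine h5.trans (Eq.trans ?_ h6.symm)
  rw [h7]
  exact key

/-- Over a reduced base scheme, a finite locally free group scheme of rank `n` is killed by `n`. -/
theorem pow_eq_one (S : Scheme.{u}) [IsReduced S] (G : Over S) [GrpObj G] (n : ℕ)
    (hG : Mor2.IsFinLocFreeOfDeg n G.hom) : (𝟙 G : G ⟶ G) ^ n = 1 := by
  apply hom_ext_of_cover S.affineOpenCover.openCover
  intro i
  have : IsOpenImmersion (S.affineOpenCover.f i) := S.affineOpenCover.map_prop i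
  exact pow_eq_one_open S G n hG _ (S.affineOpenCover.f i)

end Groth.Agent.Sga3.H794.PowReduced
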