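import Groth.Agent.Sga3B.RedIdComp
import Groth.Agent.Sga3C.GrpIrr

/-!
# The reduced identity component of a normal closed subgroup of a smooth connected group is normal
(no affineness hypothesis)
-/

set_option autoImplicit false

universe u

open CategoryTheory MonoidalCategory CartesianMonoidalCategory MonObj GrpObj AlgebraicGeometry Limits

namespace Groth.Agent.Sga3.H794.RedIdNormal

open Books.AlgPts Books.AlgPtsGrp

variable {K : Type u} [Field K]

/-- The product of two connected group schemes locally of finite type over a field is irreducible. -/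
theorem irreducibleSpace_tensor (G U : Over (Spec (CommRingCat.of K))) [GrpObj G] [GrpObj U]
    [LocallyOfFiniteType G.hom] [LocallyOfFiniteType U.hom] [ConnectedSpace G.left]
    [ConnectedSpace U.left] : IrreducibleSpace (G ⊗ U).left := by
  have h1 : GrpObj (Over.mk G.hom) := inferInstanceAs (GrpObj G)
  have h2 : GrpObj (Over.mk U.hom) := inferInstanceAs (GrpObj U)
  have hG : GeometricallyIrreducible G.hom :=
    Sga3C.GrpIrr.geometricallyIrreducible_of_connectedSpace G.hom
  have hU : GeometricallyIrreducible U.hom :=
    Sga3C.GrpIrr.geometricallyIrreducible_of_connectedSpace U.hom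
  have hGirr : IrreducibleSpace G.left := GeometricallyIrreducible.irreducibleSpace_of_subsingleton G.hom
  change IrreducibleSpace ↥(pullback G.hom U.hom)
  infer_instance

/-- The product of two smooth schemes over a field is reduced. -/
theorem isReduced_tensor (G U : Over (Spec (CommRingCat.of K)))
    [Smooth G.hom] [Smooth U.hom] : IsReduced (G ⊗ U).left := by
  have h : Smooth (G ⊗ U).hom := by
    rw [Over.tensorObj_hom]
    infer_instance
  exact Books.AlgPtsSmooth.isReduced_of_smooth (G ⊗ U)

/-- The reduced identity component of a normal closed subgroup of a smooth connected group is normal. -/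
theorem isNormalHom_of_redIdComp {G N U : Over (Spec (CommRingCat.of K))} [GrpObj G] [GrpObj N]
    [GrpObj U] [Smooth G.hom] [ConnectedSpace G.left] [LocallyOfFiniteType N.hom]
    (n : N ⟶ G) [IsMonHom n] [IsClosedImmersion n.left] (hn : AlgGrp.IsNormalHom n)
    (u : U ⟶ N) [IsMonHom u] [IsClosedImmersion u.left] [Smooth U.hom] [ConnectedSpace U.left]
    (hu : Set.range u.left = connectedComponent (pt η[N])) : AlgGrp.IsNormalHom (u ≫ n) := by
  have hred := isReduced_tensor G U
  have hirr := irreducibleSpace_tensor G U
  -- the universal conjugation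
  obtain ⟨c1, hc1⟩ := hn (G ⊗ U) (fst _ _) (snd _ _ ≫ u)
  have hrange : Set.range c1.left ⊆ Set.range u.left := by
    rw [hu]
    have h1 : _root_.IsPreconnected (Set.range c1.left) := isPreconnected_range c1.left.continuous
    refine h1.subset_connectedComponent ?_
    have h2 : (lift 1 1 : 𝟙_ _ ⟶ G ⊗ U) ≫ c1 = η[N] := by
      have : Mono n := mono_of_isClosedImmersion n
      rw [← cancel_mono n, Category.assoc, ← hc1, MonObj.comp_mul, MonObj.comp_mul, GrpObj.comp_inv,
        lift_fst]
      simp [one_eq_one]
    rw [← h2, pt_comp]
    exact ⟨_, rfl⟩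
  obtain ⟨c2, hc2⟩ := exists_lift u c1 hrange
  intro T g x
  refine ⟨lift g x ≫ c2, ?_⟩
  have h3 := congr(lift g x ≫ $hc1)
  rw [MonObj.comp_mul, MonObj.comp_mul, GrpObj.comp_inv, lift_fst] at h3
  simp only [Category.assoc, lift_snd_assoc] at h3
  rw [h3, ← hc2]
  simp

end Groth.Agent.Sga3.H794.RedIdNormal
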