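import Groth.Agent.Sga3.H794.FinPts
import Groth.Agent.Sga3.H794.RedIdNormal
import Groth.Agent.Grpsch.KerMul
import Groth.Agent.S3030
import Groth.Agent.S3037
import Mathlib.AlgebraicGeometry.Morphisms.Proper

/-!
# From a homomorphism with affine kernel to a proper group to the structure theorem

`K` algebraically closed, `G` smooth connected of finite type. If there is a homomorphism `φ : G ⟶ P` to a proper
group with affine kernel, then there is a smooth connected affine normal closed subgroup `L` with `G / L` proper.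
-/

set_option autoImplicit false

universe u

open CategoryTheory MonoidalCategory CartesianMonoidalCategory MonObj GrpObj AlgebraicGeometry Limits

namespace Groth.Agent.Sga3.H794.ChevKer

open Books.AlgPts Books.AlgPtsGrp FinPts

section cat

variable {C : Type*} [Category C] [CartesianMonoidalCategory C]

/-- A morphism `x` with `x ≫ f = 1` lifts to the kernel. -/
theorem exists_lift_ker {N G Q T : C} [GrpObj Q] {n : N ⟶ G} {f : G ⟶ Q}
    (h : IsPullback n (toUnit N) f η[Q]) (x : T ⟶ G) (hx : x ≫ f = 1) : ∃ y : T ⟶ N, y ≫ n = x := by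
  refine ⟨h.lift x (toUnit T) ?_, h.lift_fst _ _ _⟩
  rw [hx, Hom.one_def]

theorem ker_comp {N G Q T : C} [GrpObj Q] {n : N ⟶ G} {f : G ⟶ Q}
    (h : IsPullback n (toUnit N) f η[Q]) (y : T ⟶ N) : (y ≫ n) ≫ f = 1 := by
  rw [Category.assoc, h.w, ← Category.assoc, Hom.one_def]
  congr 1
  exact toUnit_unique _ _

end cat

variable {S : Scheme.{u}}

/-- Kernels are normal. -/
theorem isNormalHom_ker {N G Q : Over S} [GrpObj N] [GrpObj G] [GrpObj Q] (n : N ⟶ G) (f : G ⟶ Q)
    [IsMonHom f] (h : AlgGrp.IsKernel n f) : AlgGrp.IsNormalHom n := by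
  intro T g x
  obtain ⟨y, hy⟩ := exists_lift_ker h (g * (x ≫ n) * g⁻¹) (by
    rw [MonObj.mul_comp, MonObj.mul_comp, GrpObj.inv_comp, ker_comp h, _root_.mul_one, mul_inv_cancel])
  exact ⟨y, hy.symm⟩

/-- The kernel of a homomorphism to a separated group is a closed immersion. -/
theorem isClosedImmersion_ker {N G Q : Over S} [GrpObj Q] (n : N ⟶ G) (f : G ⟶ Q)
    (h : AlgGrp.IsKernel n f) [IsSeparated Q.hom] : IsClosedImmersion n.left := by
  have h1 : IsClosedImmersion (η[Q] : 𝟙_ (Over S) ⟶ Q).left := by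
    have h2 : IsClosedImmersion ((η[Q] : 𝟙_ (Over S) ⟶ Q).left ≫ Q.hom) := by
      rw [Over.w]
      change IsClosedImmersion (𝟙 S)
      infer_instance
    exact IsClosedImmersion.of_comp _ Q.hom
  exact MorphismProperty.of_isPullback (P := @IsClosedImmersion) (h.map (Over.forget S)).flip h1

/-- Homomorphisms descend along quotients. -/
theorem exists_desc_hom {L G Q P : Over S} [GrpObj L] [GrpObj G] [GrpObj Q] [GrpObj P] (l : L ⟶ G) (q : G ⟶ Q)
    [IsMonHom q] [Flat q.left] [Surjective q.left] [LocallyOfFinitePresentation q.left]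
    (h : AlgGrp.IsKernel l q) (φ : G ⟶ P) [IsMonHom φ] (hφ : l ≫ φ = 1) :
    ∃ ψ : Q ⟶ P, IsMonHom ψ ∧ q ≫ ψ = φ := by
  obtain ⟨ψ, hψ⟩ := Sga3C.QuotProps.exists_desc q φ (fun T x y hxy => by
    obtain ⟨z, hz⟩ := exists_lift_ker h (x * y⁻¹) (by
      rw [MonObj.mul_comp, GrpObj.inv_comp, hxy, mul_inv_cancel])
    have h1 : (x * y⁻¹) ≫ φ = 1 := by
      rw [← hz, Category.assoc, hφ, MonObj.comp_one]
    rw [MonObj.mul_comp, GrpObj.inv_comp] at h1
    exact mul_inv_eq_one.mp h1)
  refine ⟨ψ, ⟨?_, ?_⟩, hψ⟩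
  · rw [← IsMonHom.one_hom q, Category.assoc, hψ, IsMonHom.one_hom]
  · have f2 : Flat (q ⊗ₘ q).left := Sga3C.QuotProps.tensorHom_left_of (@Flat) q q ‹_› ‹_›
    have s2 : Surjective (q ⊗ₘ q).left := Sga3C.QuotProps.tensorHom_left_of (@Surjective) q q ‹_› ‹_›
    have := Sga3C.QuotProps.epi_of_flat_surjective (q ⊗ₘ q)
    rw [← cancel_epi (q ⊗ₘ q), ← Category.assoc, ← IsMonHom.mul_hom q, Category.assoc, hψ,
      IsMonHom.mul_hom, ← Category.assoc, tensorHom_comp_tensorHom, hψ]

variable {K : Type u} [Field K] [IsAlgClosed K]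

/-- The data of the structure theorem for `G`. -/
def HasChev (G : Over (Spec (CommRingCat.of K))) [GrpObj G] : Prop :=
  ∃ (L : Over (Spec (CommRingCat.of K))) (_ : GrpObj L) (l : L ⟶ G) (Q : Over (Spec (CommRingCat.of K)))
    (_ : GrpObj Q) (q : G ⟶ Q), IsMonHom l ∧ IsClosedImmersion l.left ∧ IsAffine L.left ∧ Smooth L.hom ∧
    ConnectedSpace ↥L.left ∧ AlgGrp.IsNormalHom l ∧ IsMonHom q ∧ Surjective q.left ∧ Flat q.left ∧
    AlgGrp.IsKernel l q ∧ IsProper Q.hom ∧ Smooth Q.hom ∧ ConnectedSpace ↥Q.left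

/-- A homomorphism between algebraic groups is finite if finitely many rational points map to `1`. -/
theorem isFinite_of_finite_ker {G H : Over (Spec (CommRingCat.of K))} [GrpObj G] [GrpObj H]
    [LocallyOfFiniteType G.hom] [LocallyOfFiniteType H.hom] (f : G ⟶ H) [IsMonHom f] [QuasiCompact f.left]
    (h : {x : 𝟙_ (Over (Spec (CommRingCat.of K))) ⟶ G | x ≫ f = 1}.Finite) : IsFinite f.left := by
  rw [S3037.result K G H f]
  let η' : Spec (CommRingCat.of K) ⟶ H.left := (η[H] : 𝟙_ (Over (Spec (CommRingCat.of K))) ⟶ H).left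
  have hη' : η' ≫ H.hom = 𝟙 _ := Over.w (η[H] : 𝟙_ (Over (Spec (CommRingCat.of K))) ⟶ H)
  let k : Over.mk (Limits.pullback.snd f.left η') ⟶ G := Over.homMk (Limits.pullback.fst f.left η') (by
    have h := Limits.pullback.condition (f := f.left) (g := η') =≫ H.hom
    simp only [Category.assoc, hη', Over.w] at h
    simpa using h)
  have hlft : LocallyOfFiniteType (Over.mk (Limits.pullback.snd f.left η')).hom := by
    change LocallyOfFiniteType (Limits.pullback.snd f.left η')
    have : LocallyOfFiniteType f.left := by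
      have h1 : LocallyOfFiniteType (f.left ≫ H.hom) := by rw [Over.w]; infer_instance
      exact locallyOfFiniteType_of_comp f.left H.hom
    infer_instance
  have hK : IsPullback k (toUnit _) f η[H] := by
    refine IsPullback.of_map (Over.forget _) ?_ ?_
    · ext1
      exact Limits.pullback.condition (f := f.left) (g := η')
    · exact IsPullback.of_hasPullback f.left η'
  refine discreteTopology_of_finite (X := Over.mk (Limits.pullback.snd f.left η')) ?_
  have := h.to_subtype
  refine Finite.of_injective (β := {x : 𝟙_ (Over (Spec (CommRingCat.of K))) ⟶ G | x ≫ f = 1})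
    (fun y => ⟨y ≫ k, ker_comp hK y⟩) (fun y y' hyy' => ?_)
  have h1 : y ≫ k = y' ≫ k := congrArg Subtype.val hyy'
  exact hK.hom_ext h1 (toUnit_unique _ _)

/-- Functions on the rational points of an algebraic group which are constant on the cosets of the identity
component have finite range. -/
theorem finite_range {N U : Over (Spec (CommRingCat.of K))} [GrpObj N] [LocallyOfFiniteType N.hom]
    [QuasiCompact N.hom] [LocallyOfFiniteType U.hom]
    (u : U ⟶ N) (hu : Set.range u.left = connectedComponent (pt η[N])) {α : Type*}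
    (f : (𝟙_ (Over (Spec (CommRingCat.of K))) ⟶ N) → α)
    (hf : ∀ x y, (∃ w : 𝟙_ (Over (Spec (CommRingCat.of K))) ⟶ U, w ≫ u = x * y⁻¹) → f x = f y) :
    (Set.range f).Finite := by
  classical
  have := finite_connectedComponents (N := N)
  have hf' : ∀ x y, (pt x : ConnectedComponents N.left) = pt y → f x = f y := by
    intro x y hxy
    have h1 := mem_connectedComponent_of_eq x y (ConnectedComponents.coe_eq_coe.mp hxy)
    rw [← hu] at h1
    exact hf x y (exists_comp_eq_of_pt_mem_range u _ h1)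
  have h2 : (Set.range fun x : 𝟙_ (Over (Spec (CommRingCat.of K))) ⟶ N =>
      (pt x : ConnectedComponents N.left)).Finite := Set.toFinite _
  refine (h2.image (fun c => if h : ∃ x : 𝟙_ (Over (Spec (CommRingCat.of K))) ⟶ N,
      (pt x : ConnectedComponents N.left) = c then f h.choose else f 1)).subset ?_
  rintro _ ⟨x, rfl⟩
  refine ⟨_, ⟨x, rfl⟩, ?_⟩
  have h3 : ∃ x' : 𝟙_ (Over (Spec (CommRingCat.of K))) ⟶ N,
      (pt x' : ConnectedComponents N.left) = pt x := ⟨x, rfl⟩
  simp only [h3]
  exact hf' _ _ h3.choose_spec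

end Groth.Agent.Sga3.H794.ChevKer
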