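import Groth.Agent.Sga3.H794.ChevKer

/-!
# From a homomorphism with affine kernel to a proper group to the structure theorem

`K` algebraically closed, `G` smooth connected of finite type. If there is a homomorphism `φ : G ⟶ P` to a proper
group with affine kernel, then there is a smooth connected affine normal closed subgroup `L` with `G / L` proper.
-/

set_option autoImplicit false

universe u

open CategoryTheory MonoidalCategory CartesianMonoidalCategory MonObj GrpObj AlgebraicGeometry Limits

namespace Groth.Agent.Sga3.H794.ChevAff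

open Books.AlgPts Books.AlgPtsGrp FinPts ChevKer

variable {K : Type u} [Field K]

theorem quasiCompact_left {X Y : Over (Spec (CommRingCat.of K))} (f : X ⟶ Y) [QuasiCompact X.hom]
    [IsSeparated Y.hom] : QuasiCompact f.left := by
  have h1 : QuasiCompact (f.left ≫ Y.hom) := by rw [Over.w]; infer_instance
  exact QuasiCompact.of_comp f.left Y.hom

theorem quasiCompact_of_surjective {X Y : Over (Spec (CommRingCat.of K))} (f : X ⟶ Y) [QuasiCompact X.hom]
    [Surjective f.left] : QuasiCompact Y.hom := by
  have : CompactSpace X.left := QuasiCompact.compactSpace_of_compactSpace X.hom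
  have : CompactSpace Y.left := f.left.surjective.compactSpace f.left.continuous
  infer_instance

variable [IsAlgClosed K]

theorem hasChev_of_affine_kernel (G P N : Over (Spec (CommRingCat.of K))) [GrpObj G] [GrpObj P]
    [GrpObj N] [Smooth G.hom] [QuasiCompact G.hom] [ConnectedSpace G.left] [IsProper P.hom]
    (φ : G ⟶ P) [IsMonHom φ] (n : N ⟶ G) [IsMonHom n] (hn : AlgGrp.IsKernel n φ) [IsAffine N.left] :
    HasChev G := by
  have hncl : IsClosedImmersion n.left := isClosedImmersion_ker n φ hn
  have hNlft : LocallyOfFiniteType N.hom := by rw [← Over.w n]; infer_instance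
  have hNqc : QuasiCompact N.hom := by rw [← Over.w n]; infer_instance
  have hnn : AlgGrp.IsNormalHom n := isNormalHom_ker n φ hn
  obtain ⟨L, _, u, hu1, hu2, hu3, hu4, hu5⟩ := Sga3B.RedIdComp.exists_redIdComp N
  have hL : AlgGrp.IsNormalHom (u ≫ n) := RedIdNormal.isNormalHom_of_redIdComp n hnn u hu5
  have hlcl : IsClosedImmersion (u ≫ n).left := by rw [Over.comp_left]; infer_instance
  have hLaff : IsAffine L.left := isAffine_of_isAffineHom u.left
  have hlmono : Mono (u ≫ n) := mono_of_isClosedImmersion _
  obtain ⟨Q, _, q, hq1, hq2, hq3, hq4, hq5, hq6, hq7, hq8⟩ := S3030.result K L G (u ≫ n) hL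
  have hQs : Smooth Q.hom := hq8 inferInstance
  have hQconn : ConnectedSpace Q.left := q.left.surjective.connectedSpace q.left.continuous
  have hQqc : QuasiCompact Q.hom := quasiCompact_of_surjective q
  obtain ⟨ψ, hψ1, hψ2⟩ := exists_desc_hom (u ≫ n) q hq5 φ (by
    rw [Category.assoc, ← Category.id_comp n, ker_comp hn, MonObj.comp_one])
  have hψqc : QuasiCompact ψ.left := quasiCompact_left ψ
  have hfin : IsFinite ψ.left := by
    refine isFinite_of_finite_ker ψ ?_
    refine (finite_range u hu5 (fun w => w ≫ n ≫ q) ?_).subset ?_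
    · rintro x y ⟨w, hw⟩
      have h1 : (x * y⁻¹) ≫ n ≫ q = 1 := by
        rw [← hw, Category.assoc, ← Category.assoc u, ← Category.assoc]
        exact ker_comp hq5 w
      rw [← Category.assoc, MonObj.mul_comp, GrpObj.inv_comp, MonObj.mul_comp, GrpObj.inv_comp] at h1
      simpa using mul_inv_eq_one.mp h1
    · intro y hy
      obtain ⟨x, hx⟩ := exists_comp_eq_of_pt_mem_range q y (q.left.surjective _)
      obtain ⟨w, hw⟩ := exists_lift_ker hn x (by
        rw [← hψ2, ← Category.assoc, hx]
        exact hy)
      exact ⟨w, by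
        change w ≫ n ≫ q = y
        rw [← Category.assoc, hw, hx]⟩
  refine ⟨L, inferInstance, u ≫ n, Q, inferInstance, q, inferInstance, hlcl, hLaff, hu3, hu4, hL, hq1, hq3, hq2,
    hq5, ?_, hQs, hQconn⟩
  rw [← Over.w ψ]
  infer_instance

end Groth.Agent.Sga3.H794.ChevAff
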