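import Groth.Agent.Sga3.H794.ChevProper
import Groth.Agent.S3016
import Groth.Agent.S3027
import Groth.Agent.Fdesc.GrpDimHom
import Groth.Agent.Flat2D.FibreDimSch

/-!
# The structure theorem over an algebraically closed field: the induction

The two inputs are hypotheses here:
* `DichA K`: a smooth connected algebraic group which is not proper contains a non-trivial smooth connected
  affine closed subgroup;
* `CompB K`: a central abelian subvariety `A` of a smooth connected group `G` has an almost complement: there is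
  a homomorphism `G ⟶ A` whose restriction to `A` is multiplication by some `n > 0`.
-/

set_option autoImplicit false

universe u

open CategoryTheory MonoidalCategory CartesianMonoidalCategory MonObj GrpObj AlgebraicGeometry Limits

namespace Groth.Agent.Sga3.H794.ChevInd

open Books.AlgPts Books.AlgPtsGrp FinPts ChevKer ChevAff ChevStep ChevProper

/-- Dichotomy -/
def DichA (K : Type u) [Field K] : Prop :=
  ∀ (G : Over (Spec (CommRingCat.of K))) [GrpObj G] [Smooth G.hom] [QuasiCompact G.hom]
    [ConnectedSpace G.left], ¬ IsProper G.hom →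
    ∃ (H : Over (Spec (CommRingCat.of K))) (_ : GrpObj H) (i : H ⟶ G), IsMonHom i ∧ IsClosedImmersion i.left ∧
      IsAffine H.left ∧ Smooth H.hom ∧ ConnectedSpace H.left ∧ ¬ IsIso H.hom

/-- Almost complement -/
def CompB (K : Type u) [Field K] : Prop :=
  ∀ (G A : Over (Spec (CommRingCat.of K))) [GrpObj G] [GrpObj A] [Smooth G.hom] [QuasiCompact G.hom]
    [ConnectedSpace G.left] (a : A ⟶ G) [IsMonHom a] [IsClosedImmersion a.left] [IsProper A.hom] [Smooth A.hom]
    [ConnectedSpace A.left], (∀ (X : Over (Spec (CommRingCat.of K))) (g : X ⟶ G) (x : X ⟶ A),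
      g * (x ≫ a) = (x ≫ a) * g) → ∃ (φ : G ⟶ A) (n : ℕ), IsMonHom φ ∧ 0 < n ∧ a ≫ φ = (𝟙 A : A ⟶ A) ^ n

variable {K : Type u} [Field K]

/-- A scheme of dimension zero which is irreducible has one point. -/
theorem subsingleton_of_dim_zero {X : Scheme.{u}} [IrreducibleSpace X] (h : topologicalKrullDim X ≤ 0) :
    Subsingleton X := by
  have h1 := Order.krullDim_nonpos_iff_forall_isMax.mp h
  have key : ∀ x : X, x = genericPoint X := by
    intro x
    let A : TopologicalSpace.IrreducibleCloseds X := ⟨closure {x}, isIrreducible_singleton.closure, isClosed_closure⟩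
    let B : TopologicalSpace.IrreducibleCloseds X := ⟨Set.univ, IrreducibleSpace.isIrreducible_univ X, isClosed_univ⟩
    have hAB : A ≤ B := fun _ _ => trivial
    have hBA : B ≤ A := h1 A hAB
    have h2 : closure {x} = Set.univ := Set.eq_univ_of_univ_subset hBA
    have h3 : closure {genericPoint X} = Set.univ := genericPoint_closure X
    have h4 : Inseparable x (genericPoint X) := by
      rw [inseparable_iff_closure_eq, h2, h3]
    exact h4.eq
  exact ⟨fun x y => (key x).trans (key y).symm⟩

/-- A non-trivial smooth connected algebraic group over an algebraically closed field has positive dimension. -/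
theorem one_le_dim_of_not_isIso [IsAlgClosed K] (H : Over (Spec (CommRingCat.of K))) [GrpObj H]
    [Smooth H.hom] [ConnectedSpace H.left] (h : ¬ IsIso H.hom) : 1 ≤ topologicalKrullDim H.left := by
  by_contra hlt
  rw [not_le] at hlt
  apply h
  have h0 : topologicalKrullDim H.left ≤ 0 := by
    obtain ⟨d, hd, -⟩ := Fdesc.GrpDimHom.rtd_eq H
    rw [hd] at hlt ⊢
    have h1 : d < 1 := by exact_mod_cast hlt
    have h2 : d = 0 := by omega
    subst h2
    exact le_of_eq rfl
  have h1 : GrpObj (Over.mk H.hom) := inferInstanceAs (GrpObj H)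
  have : GeometricallyIrreducible H.hom :=
    Sga3C.GrpIrr.geometricallyIrreducible_of_connectedSpace H.hom
  have hirr : IrreducibleSpace H.left := GeometricallyIrreducible.irreducibleSpace_of_subsingleton H.hom
  have hsub : Subsingleton H.left := subsingleton_of_dim_zero h0
  have hred : IsReduced H.left := Books.AlgPtsSmooth.isReduced_of_smooth H
  have hs : Surjective (η[H] : 𝟙_ (Over (Spec (CommRingCat.of K))) ⟶ H).left := by
    refine ⟨fun x => ⟨(IsLocalRing.closedPoint K : Spec (CommRingCat.of K)), Subsingleton.elim _ _⟩⟩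
  have hiso : IsIso (η[H] : 𝟙_ (Over (Spec (CommRingCat.of K))) ⟶ H).left :=
    isIso_of_isClosedImmersion_of_surjective _
  have hw : (η[H] : 𝟙_ (Over (Spec (CommRingCat.of K))) ⟶ H).left ≫ H.hom = 𝟙 _ :=
    Over.w (η[H] : 𝟙_ (Over (Spec (CommRingCat.of K))) ⟶ H)
  have : IsIso ((η[H] : 𝟙_ (Over (Spec (CommRingCat.of K))) ⟶ H).left ≫ H.hom) := by rw [hw]; infer_instance
  exact IsIso.of_isIso_comp_left (η[H] : 𝟙_ (Over (Spec (CommRingCat.of K))) ⟶ H).left H.hom

/-- Dividing by a closed subgroup of positive dimension lowers the dimension. -/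
theorem dim_lt {H G Q : Over (Spec (CommRingCat.of K))} [GrpObj H] [GrpObj G] [GrpObj Q]
    [LocallyOfFiniteType G.hom] [LocallyOfFiniteType Q.hom] [LocallyOfFiniteType H.hom] (h : H ⟶ G) (p : G ⟶ Q)
    [IsMonHom p] [QuasiCompact p.left] [Surjective p.left] (hk : AlgGrp.IsKernel h p)
    (hH : 1 ≤ topologicalKrullDim H.left) : topologicalKrullDim Q.left < topologicalKrullDim G.left := by
  have h1 := (S3016.result K G Q p).2
  have h2 : Set.range p.left.base = Set.univ := Set.range_eq_univ.mpr p.left.surjective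
  have h3 : topologicalKrullDim (Set.range p.left.base) = topologicalKrullDim Q.left := by
    rw [h2]
    exact IsHomeomorph.topologicalKrullDim_eq _ (Homeomorph.Set.univ _).isHomeomorph
  have h4 : topologicalKrullDim ↥(Limits.pullback p.left (η[Q] : 𝟙_ (Over (Spec (CommRingCat.of K))) ⟶ Q).left) =
      topologicalKrullDim H.left :=
    Flat2D.FibreDimSch.topologicalKrullDim_eq_of_iso ((hk.map (Over.forget _)).isoPullback).symm
  rw [h3, h4] at h1
  obtain ⟨a, ha, -⟩ := Fdesc.GrpDimHom.rtd_eq Q
  obtain ⟨b, hb, -⟩ := Fdesc.GrpDimHom.rtd_eq H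
  rw [h1, ha, hb]
  rw [hb] at hH
  have hb1 : 1 ≤ b := by exact_mod_cast hH
  have : a < a + b := by omega
  exact_mod_cast this

theorem hasAffKer [IsAlgClosed K] (hA : DichA K) (hB : CompB K) (G : Over (Spec (CommRingCat.of K)))
    [GrpObj G] [Smooth G.hom] [QuasiCompact G.hom] [ConnectedSpace G.left] : HasAffKer G := by
  suffices H : ∀ (d : WithBot ℕ∞) (G : Over (Spec (CommRingCat.of K))) (_ : GrpObj G) (_ : Smooth G.hom)
      (_ : QuasiCompact G.hom) (_ : ConnectedSpace G.left), topologicalKrullDim G.left = d → HasAffKer G from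
    H _ G inferInstance inferInstance inferInstance inferInstance rfl
  intro d
  induction d using WellFoundedLT.induction with
  | _ d ih =>
  intro G _ _ _ _ hd
  obtain ⟨Z, _, i, hi1, hi2, hi3, Q, _, q, hq1, hq2, hq3, hq4, hq5, hq6⟩ := S3027.result K G
  have hZlft : LocallyOfFiniteType Z.hom := by rw [← Over.w i]; infer_instance
  have hZqc : QuasiCompact Z.hom := by rw [← Over.w i]; infer_instance
  obtain ⟨A, _, a, ha1, ha2, ha3, ha4, ha5⟩ := Sga3B.RedIdComp.exists_redIdComp Z
  have hmono : Mono i := mono_of_isClosedImmersion i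
  have hmonoa : Mono a := mono_of_isClosedImmersion a
  have hAqc : QuasiCompact A.hom := by rw [← Over.w a]; infer_instance
  have hcl : IsClosedImmersion (a ≫ i).left := by rw [Over.comp_left]; infer_instance
  have hcent : ∀ (X : Over (Spec (CommRingCat.of K))) (g : X ⟶ G) (x : X ⟶ Z),
      g * (x ≫ i) = (x ≫ i) * g := by
    intro X g x
    have h1 := (hi3 X (x ≫ i)).mp ⟨x, rfl⟩ X (𝟙 X) g
    rw [Category.id_comp] at h1
    exact h1.symm
  by_cases hprop : IsProper A.hom
  · obtain ⟨φ, n, hφ1, hφ2, hφ3⟩ := hB G A (a ≫ i) (fun X g x => by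
      rw [← Category.assoc]
      exact hcent X g (x ≫ a))
    exact hasAffKer_of_proper G i q hq6 a ha5 φ n hφ2 hφ3
  · obtain ⟨H, _, h, hh1, hh2, hh3, hh4, hh5, hh6⟩ := hA A hprop
    have hhcl : IsClosedImmersion (h ≫ a ≫ i).left := by rw [Over.comp_left]; infer_instance
    have hhmono : Mono (h ≫ a ≫ i) := mono_of_isClosedImmersion _
    have hnorm : AlgGrp.IsNormalHom (h ≫ a ≫ i) := by
      intro T g x
      refine ⟨x, ?_⟩
      have h1 := hcent T g ((x ≫ h) ≫ a)
      have h2 : x ≫ h ≫ a ≫ i = ((x ≫ h) ≫ a) ≫ i := by simp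
      rw [h2, h1, mul_inv_cancel_right]
    obtain ⟨G', _, p, hp1, hp2, hp3, hp4, hp5, hp6, hp7, hp8⟩ := S3030.result K H G (h ≫ a ≫ i) hnorm
    have hG's : Smooth G'.hom := hp8 inferInstance
    have hG'conn : ConnectedSpace G'.left := p.left.surjective.connectedSpace p.left.continuous
    have hG'qc : QuasiCompact G'.hom := quasiCompact_of_surjective p
    have hpqc : QuasiCompact p.left := quasiCompact_left p
    have hlt : topologicalKrullDim G'.left < d := by
      rw [← hd]
      exact dim_lt (h ≫ a ≫ i) p hp5 (one_le_dim_of_not_isIso H hh6)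
    exact hasAffKer_of_quotient (h ≫ a ≫ i) p hp5
      (ih _ hlt G' inferInstance hG's hG'qc hG'conn rfl)

/-- **The structure theorem over an algebraically closed field**, from the two inputs. -/
theorem hasChev [IsAlgClosed K] (hA : DichA K) (hB : CompB K) (G : Over (Spec (CommRingCat.of K)))
    [GrpObj G] [Smooth G.hom] [QuasiCompact G.hom] [ConnectedSpace G.left] : HasChev G := by
  obtain ⟨P, _, φ, N, _, n, h1, h2, h3, h4, h5⟩ := hasAffKer hA hB G
  exact hasChev_of_affine_kernel G P N φ n h4

end Groth.Agent.Sga3.H794.ChevInd
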