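import Groth.Agent.Sga3.H794.ChevStep
import Groth.Agent.Grpsch.MulFin

/-!
# The case of a proper reduced identity component of the centre
-/

set_option autoImplicit false

universe u

open CategoryTheory MonoidalCategory CartesianMonoidalCategory MonObj GrpObj AlgebraicGeometry Limits

namespace Groth.Agent.Sga3.H794.ChevProper

open Books.AlgPts Books.AlgPtsGrp FinPts ChevKer ChevAff ChevStep

variable {K : Type u} [Field K] [IsAlgClosed K]

/-- The kernel of a finite morphism has finitely many rational points. -/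
theorem finite_ker_of_isFinite {A B : Over (Spec (CommRingCat.of K))} [LocallyOfFiniteType A.hom]
    (f : A ⟶ B) [IsFinite f.left] (b : 𝟙_ (Over (Spec (CommRingCat.of K))) ⟶ B) :
    {t : 𝟙_ (Over (Spec (CommRingCat.of K))) ⟶ A | t ≫ f = b}.Finite := by
  have h1 : (f.left ⁻¹' {pt b}).Finite := Scheme.Hom.finite_preimage_singleton f.left (pt b)
  refine Set.Finite.of_finite_image (f := fun t => pt t) (h1.subset ?_) ?_
  · rintro _ ⟨t, ht, rfl⟩
    have ht' : t ≫ f = b := ht
    change f.left (pt t) = pt b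
    rw [← pt_comp, ht']
  · intro t _ t' _ h
    exact pt_injective h

/-- A smooth connected group scheme over an algebraically closed field is geometrically integral. -/
theorem geometricallyIntegral (A : Over (Spec (CommRingCat.of K))) [GrpObj A] [Smooth A.hom]
    [ConnectedSpace A.left] : GeometricallyIntegral A.hom := by
  have h1 : GrpObj (Over.mk A.hom) := inferInstanceAs (GrpObj A)
  have : GeometricallyIrreducible A.hom :=
    Sga3C.GrpIrr.geometricallyIrreducible_of_connectedSpace A.hom
  have : IsReduced A.left := Books.AlgPtsSmooth.isReduced_of_smooth A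
  have : GeometricallyReduced A.hom := Sga3B.RedIdComp.geometricallyReduced_of_isReduced A.hom
  exact GeometricallyIntegral.of_geometricallyReduced_of_geometricallyIrreducible A.hom

theorem hasAffKer_of_proper (G : Over (Spec (CommRingCat.of K))) [GrpObj G] [Smooth G.hom]
    [QuasiCompact G.hom] {Z Q A : Over (Spec (CommRingCat.of K))} [GrpObj Z]
    [GrpObj Q] [GrpObj A] (i : Z ⟶ G) (q : G ⟶ Q) [IsMonHom i] [IsMonHom q]
    (hk : AlgGrp.IsKernel i q) [IsAffine Q.left] [LocallyOfFiniteType Q.hom] [IsClosedImmersion i.left]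
    (a : A ⟶ Z) [IsMonHom a] (ha : Set.range a.left = connectedComponent (pt η[Z]))
    [IsProper A.hom] [Smooth A.hom] [ConnectedSpace A.left] (φ : G ⟶ A) [IsMonHom φ] (n : ℕ) (hn : 0 < n)
    (hφ : (a ≫ i) ≫ φ = (𝟙 A) ^ n) : HasAffKer G := by
  obtain ⟨N, _, ν, hν1, hν2⟩ := Grpsch.KerMul.exists_kernel φ
  refine ⟨A, inferInstance, φ, N, inferInstance, ν, inferInstance, inferInstance, hν1, hν2, ?_⟩
  have hcl : IsClosedImmersion ν.left := isClosedImmersion_ker ν φ hν2
  have hνmono : Mono ν := mono_of_isClosedImmersion ν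
  have himono : Mono i := mono_of_isClosedImmersion i
  have hNlft : LocallyOfFiniteType N.hom := by rw [← Over.w ν]; infer_instance
  have hNqc : QuasiCompact N.hom := by rw [← Over.w ν]; infer_instance
  have hZlft : LocallyOfFiniteType Z.hom := by rw [← Over.w i]; infer_instance
  have hZqc : QuasiCompact Z.hom := by rw [← Over.w i]; infer_instance
  have hQsep : IsSeparated Q.hom := inferInstance
  have hvqc : QuasiCompact (ν ≫ q).left := quasiCompact_left _
  have hgi := geometricallyIntegral A
  have hpow : IsFinite (𝟙 A ^ n).left := Grpsch.MulFin.isFinite_pow A n hn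
  have hT' := finite_ker_of_isFinite (𝟙 A ^ n) 1
  -- the kernel of `φ` on `Z`
  have hT : {z : 𝟙_ (Over (Spec (CommRingCat.of K))) ⟶ Z | z ≫ i ≫ φ = 1}.Finite := by
    have := finite_connectedComponents (N := Z)
    refine Set.Finite.of_finite_fibers (fun z => (pt z : ConnectedComponents Z.left))
      (Set.toFinite _) ?_
    rintro c ⟨z0, hz0, rfl⟩
    refine (hT'.image (fun t => (t ≫ a) * z0)).subset ?_
    rintro z ⟨hz, hzc⟩
    have h1 := mem_connectedComponent_of_eq z z0 (ConnectedComponents.coe_eq_coe.mp hzc)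
    rw [← ha] at h1
    obtain ⟨t, ht⟩ := exists_comp_eq_of_pt_mem_range a _ h1
    refine ⟨t, ?_, ?_⟩
    · have hz' : z ≫ i ≫ φ = 1 := hz
      have hz0' : z0 ≫ i ≫ φ = 1 := hz0
      change t ≫ 𝟙 A ^ n = 1
      rw [← hφ, ← Category.assoc, ← Category.assoc, ht, Category.assoc, MonObj.mul_comp, GrpObj.inv_comp,
        hz', hz0', inv_one, _root_.mul_one]
    · change (t ≫ a) * z0 = z
      rw [ht, inv_mul_cancel_right]
  have hfin : IsFinite (ν ≫ q).left := by
    refine isFinite_of_finite_ker (ν ≫ q) ?_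
    have := hT.to_subtype
    rw [← Set.finite_coe_iff]
    have key : ∀ x : {x : 𝟙_ (Over (Spec (CommRingCat.of K))) ⟶ N | x ≫ ν ≫ q = 1},
        ∃ z : 𝟙_ (Over (Spec (CommRingCat.of K))) ⟶ Z, z ≫ i = x.1 ≫ ν := fun x =>
      exists_lift_ker hk (x.1 ≫ ν) (by rw [Category.assoc]; exact x.2)
    choose g hg using key
    refine Finite.of_injective (β := {z : 𝟙_ (Over (Spec (CommRingCat.of K))) ⟶ Z | z ≫ i ≫ φ = 1})
      (fun x => ⟨g x, ?_⟩) ?_
    · change g x ≫ i ≫ φ = 1
      rw [← Category.assoc, hg]
      exact ker_comp hν2 x.1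
    · intro x y hxy
      have h1 : g x = g y := congrArg Subtype.val hxy
      ext1
      rw [← cancel_mono ν, ← hg, ← hg, h1]
  exact isAffine_of_isAffineHom (ν ≫ q).left

end Groth.Agent.Sga3.H794.ChevProper
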