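import Groth.Agent.Sga3.H794.ChevAff
import Groth.Agent.Sga3C.KerSquare
import Groth.Agent.Etbase.FpqcDescent

/-!
# The two steps of the induction in the structure theorem for algebraic groups
-/

set_option autoImplicit false

universe u

open CategoryTheory MonoidalCategory CartesianMonoidalCategory MonObj GrpObj AlgebraicGeometry Limits

namespace Groth.Agent.Sga3.H794.ChevStep

open Books.AlgPts Books.AlgPtsGrp FinPts ChevKer ChevAff

variable {K : Type u} [Field K]

/-- There is a homomorphism with affine kernel to a proper group. -/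
def HasAffKer (G : Over (Spec (CommRingCat.of K))) [GrpObj G] : Prop :=
  ∃ (P : Over (Spec (CommRingCat.of K))) (_ : GrpObj P) (φ : G ⟶ P) (N : Over (Spec (CommRingCat.of K)))
    (_ : GrpObj N) (n : N ⟶ G), IsMonHom φ ∧ IsProper P.hom ∧ IsMonHom n ∧ AlgGrp.IsKernel n φ ∧ IsAffine N.left

/-- A faithfully flat quasi-compact homomorphism with affine kernel is affine. -/
theorem isAffineHom_of_isAffine_ker {S : Scheme.{u}} {H G Q : Over S} [GrpObj G] [GrpObj Q] (h : H ⟶ G)
    (p : G ⟶ Q) [IsMonHom p] [Flat p.left] [Surjective p.left] [QuasiCompact p.left]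
    (hk : AlgGrp.IsKernel h p) [IsAffineHom H.hom] : IsAffineHom p.left := by
  obtain ⟨d, hd⟩ := Sga3C.KerSquare.isPullback_fst_ker p
  have h1 : IsAffineHom (Limits.pullback.snd p.left (η[Q] : 𝟙_ (Over S) ⟶ Q).left) := by
    have h2 : IsPullback h.left H.hom p.left (η[Q] : 𝟙_ (Over S) ⟶ Q).left := by
      have h3 := hk.map (Over.forget S)
      have h4 : (toUnit H).left = H.hom := by
        simpa using Over.w (toUnit H)
      have h5 : (Over.forget S).map (toUnit H) = H.hom := h4
      rw [h5] at h3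
      exact h3
    have h3 : h2.isoPullback.inv ≫ H.hom =
        Limits.pullback.snd p.left (η[Q] : 𝟙_ (Over S) ⟶ Q).left := h2.isoPullback_inv_snd
    rw [← h3]
    infer_instance
  have h2 : IsAffineHom (Limits.pullback.fst p.left p.left) := MorphismProperty.of_isPullback hd.flip h1
  have := Etbase.FpqcDescent.descendsAlong_isAffineHom.{u}
  exact MorphismProperty.of_isPullback_of_descendsAlong (P := @IsAffineHom)
      (Q := @Surjective ⊓ @Flat ⊓ @QuasiCompact) (IsPullback.of_hasPullback p.left p.left)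
      ⟨⟨‹_›, ‹_›⟩, ‹_›⟩ h2

theorem hasAffKer_of_quotient {H G Q : Over (Spec (CommRingCat.of K))} [GrpObj H] [GrpObj G] [GrpObj Q]
    (h : H ⟶ G) (p : G ⟶ Q) [IsMonHom p] [Flat p.left] [Surjective p.left] [QuasiCompact p.left]
    (hk : AlgGrp.IsKernel h p) [IsAffine H.left] (hQ : HasAffKer Q) : HasAffKer G := by
  obtain ⟨P, _, φ, N, _, n, h1, h2, h3, h4, h5⟩ := hQ
  have hH : IsAffineHom H.hom := inferInstance
  have hp : IsAffineHom p.left := isAffineHom_of_isAffine_ker h p hk
  obtain ⟨N', _, n', hn'1, hn'2⟩ := Grpsch.KerMul.exists_kernel (p ≫ φ)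
  refine ⟨P, inferInstance, p ≫ φ, N', inferInstance, n', inferInstance, h2, hn'1, hn'2, ?_⟩
  -- `N' ⟶ N` is the base change of `p`
  let m : N' ⟶ N := h4.lift (n' ≫ p) (toUnit _) (by rw [Category.assoc]; exact hn'2.w)
  have hm : m ≫ n = n' ≫ p := h4.lift_fst _ _ _
  have hpb : IsPullback n' m p n := by
    have h6 : IsPullback n' (m ≫ toUnit N) (p ≫ φ) η[P] := by
      rw [toUnit_unique (m ≫ toUnit N) (toUnit N')]
      exact hn'2
    exact IsPullback.of_bot (t := h4) (by simpa using h6) hm.symm
  have h6 : IsAffineHom m.left := MorphismProperty.of_isPullback (hpb.map (Over.forget _)) hp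
  exact isAffine_of_isAffineHom m.left

end Groth.Agent.Sga3.H794.ChevStep
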