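import Groth.Agent.Sga3B.RedIdComp
import Groth.Agent.Grpsch.Transl
import Groth.Agent.Sga3C.LocConn

/-!
# Group schemes over an algebraically closed field: finiteness and discreteness from rational points
-/

set_option autoImplicit false

universe u

open CategoryTheory MonoidalCategory CartesianMonoidalCategory MonObj GrpObj AlgebraicGeometry Limits

namespace Groth.Agent.Sga3.H794.FinPts

open Books.AlgPts Books.AlgPtsGrp

variable {K : Type u} [Field K] [IsAlgClosed K]

/-- A scheme locally of finite type over an algebraically closed field with finitely many rational points is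
discrete. -/
theorem discreteTopology_of_finite {X : Over (Spec (CommRingCat.of K))} [LocallyOfFiniteType X.hom]
    (h : Finite (𝟙_ (Over (Spec (CommRingCat.of K))) ⟶ X)) : DiscreteTopology X.left := by
  have := LocallyOfFiniteType.jacobsonSpace X.hom
  have hfin : (closedPoints X.left).Finite := by
    refine (Set.finite_range (fun x : 𝟙_ _ ⟶ X => pt x)).subset ?_
    rintro z hz
    obtain ⟨x, hx⟩ := exists_pt z hz
    exact ⟨x, hx⟩
  have hcl : IsClosed (closedPoints X.left) := by
    rw [← Set.biUnion_of_singleton (closedPoints X.left)]
    exact hfin.isClosed_biUnion (fun z hz => hz)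
  have huniv : closedPoints X.left = Set.univ := by
    rw [← hcl.closure_eq, closure_closedPoints]
  have hT1 : T1Space X.left := ⟨fun x => by
    have hx : x ∈ closedPoints X.left := by rw [huniv]; trivial
    exact hx⟩
  have hX : Finite X.left := by
    rw [huniv] at hfin
    exact Set.finite_univ_iff.mp hfin
  infer_instance

/-- Two rational points in the same connected component differ by a rational point of the identity component. -/
theorem mem_connectedComponent_of_eq {N : Over (Spec (CommRingCat.of K))} [GrpObj N]
    (x y : 𝟙_ (Over (Spec (CommRingCat.of K))) ⟶ N)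
    (h : connectedComponent (pt x) = connectedComponent (pt y)) :
    pt (x * y⁻¹) ∈ connectedComponent (pt η[N]) := by
  let f : N ⟶ N := (Grpsch.Transl.rightTr N y⁻¹).hom
  have hx : f.left (pt x) = pt (x * y⁻¹) := by
    rw [← pt_comp, Grpsch.Transl.point_rightTr]
  have hy : f.left (pt y) = pt η[N] := by
    rw [← pt_comp, Grpsch.Transl.point_rightTr, mul_inv_cancel, one_eq_one]
  have h1 : _root_.IsPreconnected (f.left '' connectedComponent (pt y)) :=
    isPreconnected_connectedComponent.image _ f.left.continuous.continuousOn
  refine h1.subset_connectedComponent ⟨pt y, mem_connectedComponent, hy⟩ ?_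
  rw [← h, ← hx]
  exact ⟨pt x, mem_connectedComponent, rfl⟩

theorem finite_connectedComponents {N : Over (Spec (CommRingCat.of K))}
    [LocallyOfFiniteType N.hom] [QuasiCompact N.hom] : Finite (ConnectedComponents N.left) := by
  have : IsLocallyNoetherian N.left := LocallyOfFiniteType.isLocallyNoetherian N.hom
  have : CompactSpace N.left := QuasiCompact.compactSpace_of_compactSpace N.hom
  have := Sga3C.LocConn.locallyConnectedSpace_of_isLocallyNoetherian N.left
  infer_instance

end Groth.Agent.Sga3.H794.FinPts
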